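import Mathlib
import Groth.Prelude.Def_FlatCA
import Groth.Agent.Lib.Helper1.LimFlat6

/-!
# helper8: base change of a quotient presentation, kernel up to torsion
-/

set_option autoImplicit false
universe u

open TensorProduct

namespace Groth.Agent.H8.BlowVal

theorem mem_powTorsion {S : Type u} [CommRing S] (x : S) {M : Type u} [AddCommGroup M]
    [Module S M] (m : M) :
    m ∈ FlatCA.powTorsion S x M ↔ ∃ N : ℕ, x ^ N • m = 0 := by
  unfold FlatCA.powTorsion
  rw [Submodule.mem_iSup_of_directed]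
  · simp only [Submodule.mem_torsionBy_iff]
  · intro i j
    refine ⟨i + j, ?_, ?_⟩
    · intro m hm
      rw [Submodule.mem_torsionBy_iff] at hm ⊢
      rw [pow_add, mul_comm, mul_smul, hm, smul_zero]
    · intro m hm
      rw [Submodule.mem_torsionBy_iff] at hm ⊢
      rw [pow_add, mul_smul, hm, smul_zero]

section kernel

variable {R R₁ : Type u} [CommRing R] [CommRing R₁] [Algebra R R₁]
  {F M F₁ Q : Type u} [AddCommGroup F] [Module R F] [AddCommGroup M] [Module R M]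
  [AddCommGroup F₁] [Module R F₁] [Module R₁ F₁] [IsScalarTower R R₁ F₁]
  [AddCommGroup Q] [Module R Q] [Module R₁ Q] [IsScalarTower R R₁ Q]

/-- the induced map `M → Q` -/
noncomputable def psi (φ : F →ₗ[R] M) (hφ : Function.Surjective φ) (vm : F →ₗ[R] F₁)
    (π : F₁ →ₗ[R₁] Q) (hG : ∀ ℓ, φ ℓ = 0 → π (vm ℓ) = 0) : M →ₗ[R] Q :=
  ((LinearMap.ker φ).liftQ ((π.restrictScalars R).comp vm) (by
      intro ℓ hℓ
      rw [LinearMap.mem_ker] at hℓ ⊢
      rw [LinearMap.comp_apply]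
      exact hG ℓ hℓ)).comp
    (φ.quotKerEquivOfSurjective hφ).symm.toLinearMap

theorem psi_apply (φ : F →ₗ[R] M) (hφ : Function.Surjective φ) (vm : F →ₗ[R] F₁)
    (π : F₁ →ₗ[R₁] Q) (hG : ∀ ℓ, φ ℓ = 0 → π (vm ℓ) = 0) (v : F) :
    psi φ hφ vm π hG (φ v) = π (vm v) := by
  unfold psi
  rw [LinearMap.comp_apply, LinearEquiv.coe_coe, LinearMap.quotKerEquivOfSurjective_symm_apply,
    Submodule.liftQ_apply]
  rfl

/-- the induced map `R₁ ⊗ M → Q` -/
noncomputable def Phi (φ : F →ₗ[R] M) (hφ : Function.Surjective φ) (vm : F →ₗ[R] F₁)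
    (π : F₁ →ₗ[R₁] Q) (hG : ∀ ℓ, φ ℓ = 0 → π (vm ℓ) = 0) : R₁ ⊗[R] M →ₗ[R₁] Q :=
  (psi φ hφ vm π hG).liftBaseChange R₁

theorem Phi_baseChange (φ : F →ₗ[R] M) (hφ : Function.Surjective φ) (vm : F →ₗ[R] F₁)
    (hbc : IsBaseChange R₁ vm)
    (π : F₁ →ₗ[R₁] Q) (hG : ∀ ℓ, φ ℓ = 0 → π (vm ℓ) = 0) (ζ : R₁ ⊗[R] F) :
    Phi φ hφ vm π hG (φ.baseChange R₁ ζ) = π (hbc.equiv ζ) := by
  induction ζ using TensorProduct.induction_on with
  | zero => simp
  | tmul c v =>
    rw [LinearMap.baseChange_tmul, hbc.equiv_tmul, map_smul]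
    unfold Phi
    rw [LinearMap.liftBaseChange_tmul, psi_apply]
  | add a b ha hb => rw [map_add, map_add, ha, hb, map_add, map_add]

theorem Phi_surjective (φ : F →ₗ[R] M) (hφ : Function.Surjective φ) (vm : F →ₗ[R] F₁)
    (hbc : IsBaseChange R₁ vm)
    (π : F₁ →ₗ[R₁] Q) (hπ : Function.Surjective π) (hG : ∀ ℓ, φ ℓ = 0 → π (vm ℓ) = 0) :
    Function.Surjective (Phi φ hφ vm π hG) := by
  intro y
  obtain ⟨w, rfl⟩ := hπ y
  obtain ⟨ζ, rfl⟩ := hbc.equiv.surjective w
  exact ⟨φ.baseChange R₁ ζ, Phi_baseChange φ hφ vm hbc π hG ζ⟩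

theorem Phi_ker (φ : F →ₗ[R] M) (hφ : Function.Surjective φ) (vm : F →ₗ[R] F₁)
    (hbc : IsBaseChange R₁ vm)
    (π : F₁ →ₗ[R₁] Q) (hG : ∀ ℓ, φ ℓ = 0 → π (vm ℓ) = 0) (c₁ : R₁)
    (hc : ∀ g, π g = 0 → c₁ • g ∈ Submodule.span R₁ (vm '' {ℓ | φ ℓ = 0}))
    (ξ : R₁ ⊗[R] M) (hξ : Phi φ hφ vm π hG ξ = 0) : c₁ • ξ = 0 := by
  have hsurj : Function.Surjective (φ.baseChange R₁) := by
    rw [LinearMap.baseChange_eq_ltensor]
    exact LinearMap.lTensor_surjective R₁ hφ
  obtain ⟨ζ, rfl⟩ := hsurj ξ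
  rw [Phi_baseChange φ hφ vm hbc π hG ζ] at hξ
  have h1 := hc _ hξ
  have key : ∀ w ∈ Submodule.span R₁ (vm '' {ℓ | φ ℓ = 0}),
      ∃ η : R₁ ⊗[R] F, hbc.equiv η = w ∧ φ.baseChange R₁ η = 0 := by
    intro w hw
    induction hw using Submodule.span_induction with
    | mem w hw =>
      obtain ⟨ℓ, hℓ, rfl⟩ := hw
      refine ⟨(1 : R₁) ⊗ₜ ℓ, ?_, ?_⟩
      · rw [hbc.equiv_tmul, one_smul]
      · rw [LinearMap.baseChange_tmul]
        have : φ ℓ = 0 := hℓ
        rw [this, TensorProduct.tmul_zero]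
    | zero => exact ⟨0, map_zero _, map_zero _⟩
    | add x y _ _ hx hy =>
      obtain ⟨η₁, h1, h1'⟩ := hx
      obtain ⟨η₂, h2, h2'⟩ := hy
      exact ⟨η₁ + η₂, by rw [map_add, h1, h2], by rw [map_add, h1', h2', add_zero]⟩
    | smul c x _ hx =>
      obtain ⟨η, h1, h1'⟩ := hx
      exact ⟨c • η, by rw [map_smul, h1], by rw [map_smul, h1', smul_zero]⟩
  obtain ⟨η, hη, hη'⟩ := key _ h1
  have h2 : c₁ • ζ = η := by
    apply hbc.equiv.injective
    rw [map_smul, hη]
  rw [← map_smul, h2, hη']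

end kernel

section poly

open Groth.Agent.H1.PolyModel

attribute [local instance] MvPolynomial.algebraMvPolynomial

variable {R R₁ : Type u} [CommRing R] [CommRing R₁] [Algebra R R₁] {n r : ℕ}

theorem smul_mem_span_vmap (L : Submodule (P n R) (Fin r → P n R)) (p : P n R₁) :
    ∀ w ∈ Submodule.span R₁ (vmap n r R R₁ '' (L : Set (Fin r → P n R))),
      p • w ∈ Submodule.span R₁ (vmap n r R R₁ '' (L : Set (Fin r → P n R))) := by
  have hX : ∀ (i : Fin n), ∀ w ∈ Submodule.span R₁ (vmap n r R R₁ '' (L : Set (Fin r → P n R))),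
      (MvPolynomial.X i : P n R₁) • w ∈
        Submodule.span R₁ (vmap n r R R₁ '' (L : Set (Fin r → P n R))) := by
    intro i w hw
    induction hw using Submodule.span_induction with
    | mem w hw =>
      obtain ⟨ℓ, hℓ, rfl⟩ := hw
      apply Submodule.subset_span
      refine ⟨(MvPolynomial.X i : P n R) • ℓ, L.smul_mem _ hℓ, ?_⟩
      rw [vmap_smul', MvPolynomial.map_X]
    | zero => rw [smul_zero]; exact Submodule.zero_mem _
    | add x y _ _ hx hy => rw [smul_add]; exact Submodule.add_mem _ hx hy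
    | smul c x _ hx => rw [smul_comm]; exact Submodule.smul_mem _ _ hx
  induction p using MvPolynomial.induction_on with
  | C c =>
    intro w hw
    have : (MvPolynomial.C c : P n R₁) • w = c • w := by
      funext j
      simp only [Pi.smul_apply, smul_eq_mul, MvPolynomial.C_mul']
    rw [this]
    exact Submodule.smul_mem _ _ hw
  | add p q hp hq =>
    intro w hw
    rw [add_smul]
    exact Submodule.add_mem _ (hp w hw) (hq w hw)
  | mul_X p i hp =>
    intro w hw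
    rw [mul_smul]
    exact hp _ (hX i w hw)

theorem span_P_le (L : Submodule (P n R) (Fin r → P n R)) (w : Fin r → P n R₁)
    (hw : w ∈ Submodule.span (P n R₁) (vmap n r R R₁ '' (L : Set (Fin r → P n R)))) :
    w ∈ Submodule.span R₁ (vmap n r R R₁ '' (L : Set (Fin r → P n R))) := by
  induction hw using Submodule.span_induction with
  | mem w hw => exact Submodule.subset_span hw
  | zero => exact Submodule.zero_mem _
  | add x y _ _ hx hy => exact Submodule.add_mem _ hx hy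
  | smul p x _ hx => exact smul_mem_span_vmap L p x hx

end poly

end Groth.Agent.H8.BlowVal
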