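import Mathlib
import Groth.Agent.Lib.Helper8.BlowVal.Kernel
import Groth.Agent.Lib.Helper8.Val.SatFG

/-!
# helper8: descending the torsion-free quotient over a valuation ring to a finitely generated
subalgebra (flatness via helper1's limit descent of flatness)
-/

set_option autoImplicit false
universe u

open TensorProduct

namespace Groth.Agent.H8.BlowVal

open Groth.Agent.H1.PolyModel

attribute [local instance] MvPolynomial.algebraMvPolynomial

section muinj

variable {R₁ A : Type u} [CommRing R₁] [CommRing A] [Algebra R₁ A] {n r t : ℕ}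

theorem muM_injective (hinj : Function.Injective (algebraMap R₁ A))
    (k₁ : Fin t → (Fin r → P n R₁)) [Module.Flat R₁ (Mod r t k₁)] :
    Function.Injective (muM A r t k₁) := by
  have hb := isBaseChange_muM_restrictScalars (R := R₁) A r t k₁
  have e1 : ∀ y, hb.equiv ((1 : A) ⊗ₜ y) = muM A r t k₁ y := fun y => by
    rw [hb.equiv_tmul, one_smul]; rfl
  have hinj' : Function.Injective ((Algebra.linearMap R₁ A).rTensor (Mod r t k₁)) :=
    Module.Flat.rTensor_preserves_injective_linearMap _ hinj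
  intro y₁ y₂ hy
  have h1 : (1 : A) ⊗ₜ[R₁] y₁ = (1 : A) ⊗ₜ[R₁] y₂ := hb.equiv.injective (by rw [e1, e1, hy])
  have e2 : ∀ y : Mod r t k₁,
      (Algebra.linearMap R₁ A).rTensor (Mod r t k₁) ((1 : R₁) ⊗ₜ y) = (1 : A) ⊗ₜ y := fun y => by
    rw [LinearMap.rTensor_tmul, Algebra.linearMap_apply, map_one]
  have h2 : (1 : R₁) ⊗ₜ[R₁] y₁ = (1 : R₁) ⊗ₜ[R₁] y₂ := hinj' (by rw [e2, e2, h1])
  have h3 := congrArg (TensorProduct.lid R₁ (Mod r t k₁)) h2
  rwa [TensorProduct.lid_tmul, TensorProduct.lid_tmul, one_smul, one_smul] at h3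

end muinj

section level

theorem level (R : Type u) [CommRing R] [IsDomain R] (K : Type u) [Field K] [Algebra R K]
    [IsFractionRing R K] (A : Type u) [CommRing A] [IsDomain A] [ValuationRing A] [Algebra A K]
    [IsFractionRing A K] [Algebra R A] [IsScalarTower R A K] {n r : ℕ}
    (L : Submodule (P n R) (Fin r → P n R)) :
    ∃ (E : Finset A) (x : R), x ≠ 0 ∧
      ∀ (R₁ : Type u) [CommRing R₁] [Algebra R R₁] (σ : R₁ →ₐ[R] A), Function.Injective σ →
        (∀ e ∈ E, e ∈ Set.range σ) →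
        ∃ (t : ℕ) (k₁ : Fin t → (Fin r → P n R₁)), Module.Flat R₁ (Mod r t k₁) ∧
          (∀ ℓ ∈ L, vmap n r R R₁ ℓ ∈ LinearMap.range (kap r t k₁)) ∧
          ∃ c₁ : R₁, c₁ ∣ algebraMap R R₁ x ∧
            ∀ g ∈ LinearMap.range (kap r t k₁),
              c₁ • g ∈ Submodule.span R₁ (vmap n r R R₁ '' (L : Set (Fin r → P n R))) := by
  classical
  have hRA : Function.Injective (algebraMap R A) := by
    have h := IsFractionRing.injective R K
    rw [IsScalarTower.algebraMap_eq R A K, RingHom.coe_comp] at h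
    exact Function.Injective.of_comp h
  obtain ⟨LA, hLA⟩ : ∃ LA : Submodule (P n A) (Fin r → P n A),
      LA = Submodule.span (P n A) (vmap n r R A '' (L : Set (Fin r → P n R))) := ⟨_, rfl⟩
  obtain ⟨satL, hsatL⟩ : ∃ satL : Submodule (P n A) (Fin r → P n A),
      ∀ v, v ∈ satL ↔ ∃ c : A, c ≠ 0 ∧ c • v ∈ LA := by
    refine ⟨{ carrier := {v | ∃ c : A, c ≠ 0 ∧ c • v ∈ LA}
              add_mem' := ?_, zero_mem' := ?_, smul_mem' := ?_ }, fun v => Iff.rfl⟩
    · rintro v w ⟨c, hc, hv⟩ ⟨d, hd, hw⟩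
      refine ⟨c * d, mul_ne_zero hc hd, ?_⟩
      rw [smul_add]
      refine LA.add_mem ?_ ?_
      · rw [mul_comm, mul_smul]
        exact Submodule.smul_of_tower_mem LA d hv
      · rw [mul_smul]
        exact Submodule.smul_of_tower_mem LA c hw
    · exact ⟨1, one_ne_zero, by rw [smul_zero]; exact LA.zero_mem⟩
    · rintro p v ⟨c, hc, hv⟩
      exact ⟨c, hc, by rw [smul_comm]; exact LA.smul_mem p hv⟩
  have hsat : ∀ a : A, a ≠ 0 → ∀ v : Fin r → P n A, a • v ∈ satL → v ∈ satL := by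
    intro a ha v hv
    rw [hsatL] at hv ⊢
    obtain ⟨c, hc, hcv⟩ := hv
    exact ⟨c * a, mul_ne_zero hc ha, by rw [mul_smul]; exact hcv⟩
  have htf : ∀ a : A, a ≠ 0 → ∀ c : P n A, a • c = 0 → c = 0 := by
    intro a ha c hc
    rw [MvPolynomial.smul_eq_C_mul] at hc
    rcases mul_eq_zero.mp hc with h | h
    · exact absurd (MvPolynomial.C_injective (Fin n) A (by rw [h, map_zero])) ha
    · exact h
  have hfg : satL.FG := Groth.Agent.H8.Val.submodule_sat_fg A (P n A) htf r satL hsat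
  obtain ⟨t, k, hk⟩ := Submodule.fg_iff_exists_fin_generating_family.mp hfg
  have hrange : ∀ v, v ∈ LinearMap.range (kap r t k) ↔ v ∈ satL := by
    intro v
    rw [range_kap, hk]
  haveI hflatA : Module.Flat A (Mod r t k) := by
    rw [Module.Flat.flat_iff_torsion_eq_bot_of_isBezout, eq_bot_iff]
    intro y hy
    rw [Submodule.mem_torsion_iff] at hy
    obtain ⟨⟨a, ha⟩, hay⟩ := hy
    obtain ⟨v, rfl⟩ := proj_surjective r t k y
    have ha0 : a ≠ 0 := nonZeroDivisors.ne_zero ha
    have hay' : a • proj r t k v = 0 := hay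
    rw [← LinearMap.map_smul_of_tower, Submodule.mkQ_apply, Submodule.Quotient.mk_eq_zero,
      hrange] at hay'
    rw [Submodule.mem_bot, Submodule.mkQ_apply, Submodule.Quotient.mk_eq_zero, hrange]
    exact hsat a ha0 v hay'
  obtain ⟨S₂, hS₂, k₂, hk₂, hflat₂⟩ := Groth.Agent.H1.LimFlat.exists_fg_flat_model r t k
  obtain ⟨G₂, hG₂⟩ := hS₂
  haveI := hflat₂
  have hc : ∀ u, ∃ c : A, c ≠ 0 ∧ c • k u ∈ LA := fun u =>
    (hsatL _).mp (by rw [← hk]; exact Submodule.subset_span ⟨u, rfl⟩)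
  choose c hc0 hcL using hc
  have hT : ∀ u, ∃ T : Finset (Fin r → P n A),
      (T : Set (Fin r → P n A)) ⊆ vmap n r R A '' (L : Set (Fin r → P n R)) ∧
        c u • k u ∈ Submodule.span (P n A) (T : Set (Fin r → P n A)) := by
    intro u
    have h1 := hcL u
    rw [hLA] at h1
    exact Submodule.mem_span_finite_of_mem_span h1
  choose T hTsub hTmem using hT
  have hh : ∀ u, ∃ h : (Fin r → P n A) → P n A, ∑ w ∈ T u, h w • w = c u • k u := by
    intro u
    obtain ⟨h, -, hsum⟩ := Submodule.mem_span_finset.mp (hTmem u)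
    exact ⟨h, hsum⟩
  choose h hh using hh
  -- the fraction
  obtain ⟨x, y, hy, hxy⟩ := IsFractionRing.div_surjective (A := R) (algebraMap A K (∏ u, c u))
  have hy0 : y ≠ 0 := nonZeroDivisors.ne_zero hy
  have hcprod : (∏ u, c u) ≠ 0 := Finset.prod_ne_zero_iff.mpr (fun u _ => hc0 u)
  have hxy' : algebraMap R A x = (∏ u, c u) * algebraMap R A y := by
    apply IsFractionRing.injective A K
    rw [map_mul, ← IsScalarTower.algebraMap_apply R A K, ← IsScalarTower.algebraMap_apply R A K,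
      ← hxy, div_mul_cancel₀]
    exact (map_ne_zero_iff _ (IsFractionRing.injective R K)).mpr hy0
  have hx0 : x ≠ 0 := by
    rintro rfl
    rw [map_zero] at hxy'
    rcases mul_eq_zero.mp hxy'.symm with h1 | h1
    · exact hcprod h1
    · exact hy0 (hRA (by rw [h1, map_zero]))
  obtain ⟨E, hE⟩ : ∃ E : Finset A, E = G₂ ∪ Finset.univ.image c ∪
      Finset.univ.biUnion (fun u => (T u).biUnion (fun w => (h u w).coeffs)) := ⟨_, rfl⟩
  refine ⟨E, x, hx0, ?_⟩
  intro R₁ _ _ σ hσ hEσ
  letI algR₁A : Algebra R₁ A := σ.toRingHom.toAlgebra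
  haveI : IsScalarTower R R₁ A := IsScalarTower.of_algebraMap_eq (fun z => (σ.commutes z).symm)
  have hσ' : Function.Injective (algebraMap R₁ A) := hσ
  have halg : ∀ z : R₁, algebraMap R₁ A z = σ z := fun z => rfl
  have hS₂range : ∀ s : A, s ∈ S₂ → s ∈ Set.range σ := by
    intro s hs
    rw [← hG₂] at hs
    induction hs using Algebra.adjoin_induction with
    | mem s hs =>
      exact hEσ s (by
        rw [hE]
        exact Finset.mem_union_left _ (Finset.mem_union_left _ (Finset.mem_coe.mp hs)))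
    | algebraMap z =>
      exact ⟨(z : R₁), by rw [map_intCast]; exact (eq_intCast (algebraMap ℤ A) z).symm⟩
    | add a b _ _ ha hb =>
      obtain ⟨a', rfl⟩ := ha
      obtain ⟨b', rfl⟩ := hb
      exact ⟨a' + b', map_add σ a' b'⟩
    | mul a b _ _ ha hb =>
      obtain ⟨a', rfl⟩ := ha
      obtain ⟨b', rfl⟩ := hb
      exact ⟨a' * b', map_mul σ a' b'⟩
  choose g hg using (fun s : S₂ => hS₂range s.1 s.2)
  obtain ⟨τ, hτ⟩ : ∃ τ : S₂ →+* R₁, ∀ s, σ (τ s) = (s : A) := by
    refine ⟨{ toFun := g, map_one' := ?_, map_mul' := ?_, map_zero' := ?_, map_add' := ?_ }, hg⟩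
    · apply hσ
      rw [hg, map_one]
      rfl
    · intro a b
      apply hσ
      rw [hg, map_mul, hg, hg]
      rfl
    · apply hσ
      rw [hg, map_zero]
      rfl
    · intro a b
      apply hσ
      rw [hg, map_add, hg, hg]
      rfl
  obtain ⟨k₁, hk₁⟩ : ∃ k₁ : Fin t → (Fin r → P n R₁),
      ∀ u i, k₁ u i = MvPolynomial.map τ (k₂ u i) := ⟨_, fun _ _ => rfl⟩
  haveI hflat₁ : Module.Flat R₁ (Mod r t k₁) :=
    Groth.Agent.H1.LimFlat.flat_model_of_ringHom r t τ k₂ k₁ (fun u a => (hk₁ u a).symm)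
  have hk₁A : kmap A r t k₁ = k := by
    rw [← hk₂]
    funext u i
    change MvPolynomial.map (algebraMap R₁ A) (k₁ u i) =
      MvPolynomial.map (algebraMap S₂ A) (k₂ u i)
    rw [hk₁, MvPolynomial.map_map]
    have hcomp : (algebraMap R₁ A).comp τ = algebraMap S₂ A := RingHom.ext (fun s => hτ s)
    rw [hcomp]
  have hmu : Function.Injective (muM A r t k₁) := muM_injective hσ' k₁
  have hmem : ∀ v : Fin r → P n R₁, vmap n r R₁ A v ∈ LinearMap.range (kap r t k) →
      v ∈ LinearMap.range (kap r t k₁) := by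
    intro v hv
    rw [← hk₁A] at hv
    have h0 : muM A r t k₁ (proj r t k₁ v) = 0 := by
      rw [muM_proj]
      exact (Submodule.Quotient.mk_eq_zero _).mpr hv
    have h1 : proj r t k₁ v = 0 := hmu (by rw [h0, map_zero])
    exact (Submodule.Quotient.mk_eq_zero _).mp h1
  refine ⟨t, k₁, hflat₁, ?_, ?_⟩
  · intro ℓ hℓ
    apply hmem
    rw [vmap_vmap, hrange, hsatL]
    exact ⟨1, one_ne_zero, by rw [one_smul, hLA]; exact Submodule.subset_span ⟨ℓ, hℓ, rfl⟩⟩
  · have hcl : ∀ u, ∃ d : R₁, σ d = c u := fun u =>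
      hEσ (c u) (by
        rw [hE]
        exact Finset.mem_union_left _ (Finset.mem_union_right _
          (Finset.mem_image_of_mem c (Finset.mem_univ u))))
    choose cl hcl using hcl
    refine ⟨∏ u, cl u, ?_, ?_⟩
    · refine ⟨algebraMap R R₁ y, ?_⟩
      apply hσ
      rw [map_mul, map_prod, AlgHom.commutes, AlgHom.commutes, hxy']
      congr 1
      exact Finset.prod_congr rfl (fun u _ => (hcl u).symm)
    · have hhl : ∀ u w, w ∈ T u →
          ∃ p : P n R₁, MvPolynomial.map (algebraMap R₁ A) p = h u w := by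
        intro u w hw
        have : h u w ∈ Set.range (MvPolynomial.map (algebraMap R₁ A)) := by
          rw [MvPolynomial.mem_range_map_iff_coeffs_subset]
          intro a ha
          exact hEσ a (by
            rw [hE]
            exact Finset.mem_union_right _ (Finset.mem_biUnion.mpr
              ⟨u, Finset.mem_univ u, Finset.mem_biUnion.mpr ⟨w, hw, ha⟩⟩))
        exact this
      choose! hl hhl using hhl
      have hℓ : ∀ u w, w ∈ T u → ∃ ℓ : Fin r → P n R, ℓ ∈ L ∧ vmap n r R A ℓ = w := by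
        intro u w hw
        obtain ⟨ℓ, hℓ, rfl⟩ := hTsub u hw
        exact ⟨ℓ, hℓ, rfl⟩
      choose! ℓf hℓL hℓw using hℓ
      have hcu : ∀ u, cl u • k₁ u ∈
          Submodule.span R₁ (vmap n r R R₁ '' (L : Set (Fin r → P n R))) := by
        intro u
        have h1 : cl u • k₁ u = ∑ w ∈ T u, hl u w • vmap n r R R₁ (ℓf u w) := by
          apply vmap_injective n r R₁ A hσ'
          rw [vmap_smul_base, map_sum]
          have e1 : vmap n r R₁ A (k₁ u) = k u := congrFun hk₁A u
          rw [e1, halg, hcl, ← hh u]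
          apply Finset.sum_congr rfl
          intro w hw
          rw [vmap_smul', vmap_vmap, hhl u w hw, hℓw u w hw]
        rw [h1]
        refine Submodule.sum_mem _ (fun w hw => ?_)
        exact smul_mem_span_vmap L _ _ (Submodule.subset_span ⟨ℓf u w, hℓL u w hw, rfl⟩)
      intro g hg
      obtain ⟨p, rfl⟩ := hg
      rw [kap_apply, Finset.smul_sum]
      refine Submodule.sum_mem _ (fun u _ => ?_)
      rw [smul_comm]
      apply smul_mem_span_vmap L
      obtain ⟨d, hd⟩ := Finset.dvd_prod_of_mem cl (Finset.mem_univ u)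
      rw [hd, mul_comm, mul_smul]
      exact Submodule.smul_mem _ _ (hcu u)

end level

section strict

theorem flat_quot_of_ker {R₁ X Q : Type u} [CommRing R₁] [AddCommGroup X] [Module R₁ X]
    [AddCommGroup Q] [Module R₁ Q] [Module.Flat R₁ Q] (Φ : X →ₗ[R₁] Q)
    (hΦ : Function.Surjective Φ) (J : Submodule R₁ X) (hJ : LinearMap.ker Φ = J) :
    Module.Flat R₁ (X ⧸ J) := by
  subst hJ
  exact Module.Flat.of_linearEquiv (Φ.quotKerEquivOfSurjective hΦ)

theorem strict_of_level {R R₁ : Type u} [CommRing R] [CommRing R₁] [IsDomain R₁] [Algebra R R₁]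
    {n r t : ℕ} (L : Submodule (P n R) (Fin r → P n R)) (k₁ : Fin t → (Fin r → P n R₁))
    [Module.Flat R₁ (Mod r t k₁)]
    (hvL : ∀ ℓ ∈ L, vmap n r R R₁ ℓ ∈ LinearMap.range (kap r t k₁))
    (c₁ : R₁) (a : R) (ha : algebraMap R R₁ a ≠ 0) (hca : c₁ ∣ algebraMap R R₁ a)
    (hc : ∀ g ∈ LinearMap.range (kap r t k₁),
      c₁ • g ∈ Submodule.span R₁ (vmap n r R R₁ '' (L : Set (Fin r → P n R))))
    {M : Type u} [AddCommGroup M] [Module R M] (φ : (Fin r → P n R) →ₗ[R] M)
    (hφ : Function.Surjective φ) (hker : ∀ v, φ v = 0 ↔ v ∈ L) :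
    ∃ Φ : R₁ ⊗[R] M →ₗ[R₁] Mod r t k₁, Function.Surjective Φ ∧
      LinearMap.ker Φ = FlatCA.powTorsion R₁ (algebraMap R R₁ a) (R₁ ⊗[R] M) ∧
      ∀ ζ : R₁ ⊗[R] (Fin r → P n R), Φ (φ.baseChange R₁ ζ) =
        proj r t k₁ ((isBaseChange_vmap_restrictScalars n r R R₁).equiv ζ) := by
  have hbc := isBaseChange_vmap_restrictScalars n r R R₁
  have hG : ∀ ℓ, φ ℓ = 0 → ((proj r t k₁).restrictScalars R₁)
      (((vmap n r R R₁).restrictScalars R) ℓ) = 0 := by
    intro ℓ hℓ
    exact (Submodule.Quotient.mk_eq_zero _).mpr (hvL ℓ ((hker ℓ).mp hℓ))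
  have hcond : ∀ g, ((proj r t k₁).restrictScalars R₁) g = 0 →
      c₁ • g ∈ Submodule.span R₁ (((vmap n r R R₁).restrictScalars R) '' {ℓ | φ ℓ = 0}) := by
    intro g hg
    have hg' : g ∈ LinearMap.range (kap r t k₁) := (Submodule.Quotient.mk_eq_zero _).mp hg
    have h2 := hc g hg'
    refine Submodule.span_mono ?_ h2
    rintro _ ⟨ℓ, hℓ, rfl⟩
    exact ⟨ℓ, (hker ℓ).mpr hℓ, rfl⟩
  refine ⟨Phi φ hφ ((vmap n r R R₁).restrictScalars R) ((proj r t k₁).restrictScalars R₁) hG,
    ?_, ?_, ?_⟩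
  · exact Phi_surjective φ hφ _ hbc _ (proj_surjective r t k₁) hG
  · ext ξ
    rw [LinearMap.mem_ker, mem_powTorsion]
    constructor
    · intro hξ
      have h1 : c₁ • ξ = 0 := Phi_ker φ hφ _ hbc _ hG c₁ hcond ξ hξ
      obtain ⟨d, hd⟩ := hca
      refine ⟨1, ?_⟩
      rw [pow_one, hd, mul_comm, mul_smul, h1, smul_zero]
    · rintro ⟨N, hN⟩
      have h1 : (algebraMap R R₁ a) ^ N •
          Phi φ hφ ((vmap n r R R₁).restrictScalars R) ((proj r t k₁).restrictScalars R₁) hG ξ
            = 0 := by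
        rw [← map_smul, hN, map_zero]
      have hreg := Module.Flat.isSMulRegular_of_nonZeroDivisors (M := Mod r t k₁)
        (mem_nonZeroDivisors_of_ne_zero (pow_ne_zero N ha))
      apply hreg
      simp only []
      rw [h1, smul_zero]
  · intro ζ
    exact Phi_baseChange φ hφ _ hbc _ hG ζ

end strict

end Groth.Agent.H8.BlowVal
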