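import Mathlib
import Groth.Prelude.Def_BlowUp2
import Groth.Prelude.Def_FlatCA
import Groth.Agent.Lib.Helper8.BlowVal.Level

/-!
# helper8: flattening by an affine blow-up along a valuation ring (S6930)
-/

set_option autoImplicit false
universe u

open TensorProduct

namespace Groth.Agent.H8.BlowVal

open Groth.Agent.H1.PolyModel

attribute [local instance] MvPolynomial.algebraMvPolynomial

section pres

variable {R S M : Type u} [CommRing R] [CommRing S] [Algebra R S] [AddCommGroup M] [Module S M]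
  [Module R M] [IsScalarTower R S M] {n r : ℕ} (f : P n R →ₐ[R] S) (m : Fin r → M)

/-- the presentation map -/
noncomputable def phiM : (Fin r → P n R) →ₗ[R] M where
  toFun v := ∑ i, f (v i) • m i
  map_add' v w := by
    simp only [Pi.add_apply, map_add, add_smul, Finset.sum_add_distrib]
  map_smul' c v := by
    simp only [Pi.smul_apply, RingHom.id_apply, Finset.smul_sum]
    refine Finset.sum_congr rfl (fun i _ => ?_)
    rw [map_smul, smul_assoc]

theorem phiM_apply (v : Fin r → P n R) : phiM f m v = ∑ i, f (v i) • m i := rfl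

theorem phiM_smul (p : P n R) (v : Fin r → P n R) : phiM f m (p • v) = f p • phiM f m v := by
  rw [phiM_apply, phiM_apply, Finset.smul_sum]
  refine Finset.sum_congr rfl (fun i _ => ?_)
  rw [Pi.smul_apply, smul_eq_mul, map_mul, mul_smul]

theorem phiM_surjective (hf : Function.Surjective f)
    (hm : Submodule.span S (Set.range m) = ⊤) : Function.Surjective (phiM f m) := by
  intro y
  have hy : y ∈ Submodule.span S (Set.range m) := by rw [hm]; exact Submodule.mem_top
  obtain ⟨c, hc⟩ := (Submodule.mem_span_range_iff_exists_fun S).mp hy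
  choose p hp using fun i => hf (c i)
  refine ⟨p, ?_⟩
  rw [phiM_apply, ← hc]
  exact Finset.sum_congr rfl (fun i _ => by rw [hp])

/-- the kernel as a submodule over the polynomial ring -/
def kerM : Submodule (P n R) (Fin r → P n R) where
  carrier := {v | phiM f m v = 0}
  add_mem' := by
    intro v w hv hw
    simp only [Set.mem_setOf_eq] at *
    rw [map_add, hv, hw, add_zero]
  zero_mem' := map_zero _
  smul_mem' := by
    intro p v hv
    simp only [Set.mem_setOf_eq] at *
    rw [phiM_smul, hv, smul_zero]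

theorem mem_kerM (v : Fin r → P n R) : v ∈ kerM f m ↔ phiM f m v = 0 := Iff.rfl

end pres

section Spart

theorem S_part {R R₁ S : Type u} [CommRing R] [CommRing R₁] [CommRing S] [Algebra R R₁]
    [Algebra R S] {n t : ℕ} (f : P n R →ₐ[R] S) (hf : Function.Surjective f)
    (k₁ : Fin t → (Fin 1 → P n R₁)) [Module.Flat R₁ (Mod 1 t k₁)] (a : R)
    (Φ : R₁ ⊗[R] S →ₗ[R₁] Mod 1 t k₁) (hΦ : Function.Surjective Φ)
    (hker : LinearMap.ker Φ = FlatCA.powTorsion R₁ (algebraMap R R₁ a) (R₁ ⊗[R] S))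
    (hcompat : ∀ ζ : R₁ ⊗[R] (Fin 1 → P n R),
      Φ ((phiM f (fun _ : Fin 1 => (1 : S))).baseChange R₁ ζ) =
        proj 1 t k₁ ((isBaseChange_vmap_restrictScalars n 1 R R₁).equiv ζ)) :
    Module.Flat R₁ ((R₁ ⊗[R] S) ⧸
        FlatCA.powTorsion (R₁ ⊗[R] S) (algebraMap R (R₁ ⊗[R] S) a) (R₁ ⊗[R] S)) ∧
      Algebra.FinitePresentation R₁ ((R₁ ⊗[R] S) ⧸
        FlatCA.powTorsion (R₁ ⊗[R] S) (algebraMap R (R₁ ⊗[R] S) a) (R₁ ⊗[R] S)) := by
  classical
  obtain ⟨IS, hIS⟩ : ∃ IS : Ideal (R₁ ⊗[R] S),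
      IS = FlatCA.powTorsion (R₁ ⊗[R] S) (algebraMap R (R₁ ⊗[R] S) a) (R₁ ⊗[R] S) := ⟨_, rfl⟩
  rw [← hIS]
  have hmemIS : ∀ ξ : R₁ ⊗[R] S, ξ ∈ IS ↔ Φ ξ = 0 := by
    intro ξ
    rw [← LinearMap.mem_ker, hker, hIS, mem_powTorsion, mem_powTorsion]
    have e1 : ∀ N : ℕ, (algebraMap R (R₁ ⊗[R] S) a) ^ N • ξ = (algebraMap R R₁ a) ^ N • ξ := by
      intro N
      rw [smul_eq_mul, Algebra.smul_def, map_pow, ← IsScalarTower.algebraMap_apply]
    simp only [e1]
  constructor
  · have hres : IS.restrictScalars R₁ = LinearMap.ker Φ := by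
      ext ξ
      rw [Submodule.restrictScalars_mem, hmemIS, LinearMap.mem_ker]
    haveI : Module.Flat R₁ ((R₁ ⊗[R] S) ⧸ IS.restrictScalars R₁) :=
      flat_quot_of_ker Φ hΦ _ hres.symm
    exact Module.Flat.of_linearEquiv (Submodule.Quotient.restrictScalarsEquiv R₁ IS).symm
  · obtain ⟨g₀, hg₀⟩ : ∃ g₀ : P n R₁ →ₐ[R₁] R₁ ⊗[R] S,
        g₀ = MvPolynomial.aeval (fun i => (1 : R₁) ⊗ₜ[R] f (MvPolynomial.X i)) := ⟨_, rfl⟩
    have hg₀map : ∀ q : P n R, g₀ (MvPolynomial.map (algebraMap R R₁) q) = (1 : R₁) ⊗ₜ[R] f q := by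
      intro q
      rw [hg₀, MvPolynomial.aeval_map_algebraMap]
      have h1 : (MvPolynomial.aeval (R := R) (fun i => (1 : R₁) ⊗ₜ[R] f (MvPolynomial.X i)) :
          P n R →ₐ[R] R₁ ⊗[R] S) =
          (Algebra.TensorProduct.includeRight : S →ₐ[R] R₁ ⊗[R] S).comp f := by
        apply MvPolynomial.algHom_ext
        intro i
        rw [MvPolynomial.aeval_X, AlgHom.comp_apply, Algebra.TensorProduct.includeRight_apply]
      rw [h1, AlgHom.comp_apply, Algebra.TensorProduct.includeRight_apply]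
    have hstar : ∀ ζ : R₁ ⊗[R] (Fin 1 → P n R),
        (phiM f (fun _ : Fin 1 => (1 : S))).baseChange R₁ ζ =
          g₀ ((isBaseChange_vmap_restrictScalars n 1 R R₁).equiv ζ 0) := by
      intro ζ
      induction ζ using TensorProduct.induction_on with
      | zero => simp
      | tmul c v =>
        rw [LinearMap.baseChange_tmul, IsBaseChange.equiv_tmul, Pi.smul_apply]
        have h1 : phiM f (fun _ : Fin 1 => (1 : S)) v = f (v 0) := by
          rw [phiM_apply, Fin.sum_univ_one, smul_eq_mul, mul_one]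
        have h2 : ((vmap n 1 R R₁).restrictScalars R) v 0 =
            MvPolynomial.map (algebraMap R R₁) (v 0) := rfl
        rw [h1, h2, map_smul, hg₀map, TensorProduct.smul_tmul', smul_eq_mul, mul_one]
      | add x y hx hy => rw [map_add, map_add, Pi.add_apply, map_add, hx, hy]
    have hΦg : ∀ p : P n R₁, Φ (g₀ p) = proj 1 t k₁ (fun _ => p) := by
      intro p
      obtain ⟨ζ, hζ⟩ := (isBaseChange_vmap_restrictScalars n 1 R R₁).equiv.surjective
        (fun _ : Fin 1 => p)
      have h1 := hcompat ζ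
      rw [hstar ζ, hζ] at h1
      exact h1
    have hg₀surj : Function.Surjective g₀ := by
      intro ξ
      induction ξ using TensorProduct.induction_on with
      | zero => exact ⟨0, map_zero _⟩
      | tmul c s =>
        obtain ⟨q, rfl⟩ := hf s
        refine ⟨c • MvPolynomial.map (algebraMap R R₁) q, ?_⟩
        rw [map_smul, hg₀map, TensorProduct.smul_tmul', smul_eq_mul, mul_one]
      | add x y hx hy =>
        obtain ⟨p, rfl⟩ := hx
        obtain ⟨q, rfl⟩ := hy
        exact ⟨p + q, map_add _ _ _⟩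
    obtain ⟨g, hg⟩ : ∃ g : P n R₁ →ₐ[R₁] (R₁ ⊗[R] S) ⧸ IS,
        g = (Ideal.Quotient.mkₐ R₁ IS).comp g₀ := ⟨_, rfl⟩
    have hgsurj : Function.Surjective g := by
      rw [hg]
      exact (Ideal.Quotient.mkₐ_surjective R₁ IS).comp hg₀surj
    have hgker : RingHom.ker g.toRingHom = Ideal.span (Set.range fun u => k₁ u 0) := by
      ext p
      rw [RingHom.mem_ker]
      change g p = 0 ↔ _
      rw [hg, AlgHom.comp_apply, Ideal.Quotient.mkₐ_eq_mk, Ideal.Quotient.eq_zero_iff_mem, hmemIS,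
        hΦg, Submodule.mkQ_apply, Submodule.Quotient.mk_eq_zero,
        Ideal.mem_span_range_iff_exists_fun]
      constructor
      · rintro ⟨c, hc⟩
        refine ⟨c, ?_⟩
        have h1 := congrFun hc 0
        rw [kap_apply, Finset.sum_apply] at h1
        rw [← h1]
        exact Finset.sum_congr rfl (fun u _ => rfl)
      · rintro ⟨c, hc⟩
        refine ⟨c, ?_⟩
        rw [kap_apply]
        funext i
        rw [Fin.fin_one_eq_zero i, Finset.sum_apply, ← hc]
        exact Finset.sum_congr rfl (fun u _ => rfl)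
    refine Algebra.FinitePresentation.of_surjective hgsurj ?_
    rw [hgker]
    exact Submodule.fg_span (Set.finite_range _)

end Spart

section sigma

theorem exists_sigma {R K A : Type u} [CommRing R] [IsDomain R] [Field K] [Algebra R K]
    [IsFractionRing R K] [CommRing A] [Algebra A K] [Algebra R A] [IsScalarTower R A K]
    (hAK : Function.Injective (algebraMap A K)) (I : Ideal R) (a : R) (ha : a ≠ 0)
    (hI : ∀ x ∈ I, ∃ y : A, algebraMap A K y * algebraMap R K a = algebraMap R K x) :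
    ∃ σ₀ : BlowUp.affineAlgebra R I a →ₐ[R] A, Function.Injective σ₀ ∧
      ∀ x ∈ I, ∀ y : A, algebraMap A K y * algebraMap R K a = algebraMap R K x →
        y ∈ Set.range σ₀ := by
  classical
  have ha' : algebraMap R K a ≠ 0 := (map_ne_zero_iff _ (IsFractionRing.injective R K)).mpr ha
  have hunit : ∀ y : Submonoid.powers a, IsUnit (algebraMap R K (y : R)) := by
    rintro ⟨_, N, rfl⟩
    rw [map_pow]
    exact (IsUnit.mk0 _ ha').pow N
  obtain ⟨lam, hlam⟩ : ∃ lam : Localization.Away a →+* K,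
      lam = IsLocalization.lift (M := Submonoid.powers a) (S := Localization.Away a) hunit :=
    ⟨_, rfl⟩
  have hlam_alg : ∀ z : R, lam (algebraMap R (Localization.Away a) z) = algebraMap R K z := by
    intro z
    rw [hlam, IsLocalization.lift_eq]
  have hlam_mk : ∀ x : R, lam (IsLocalization.mk' (Localization.Away a) x
      (⟨a, Submonoid.mem_powers a⟩ : Submonoid.powers a)) * algebraMap R K a =
        algebraMap R K x := by
    intro x
    have h1 := IsLocalization.mk'_spec (Localization.Away a) x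
      (⟨a, Submonoid.mem_powers a⟩ : Submonoid.powers a)
    have h2 := congrArg lam h1
    rw [map_mul, hlam_alg, hlam_alg] at h2
    exact h2
  have hlam_inj : Function.Injective lam := by
    rw [hlam, IsLocalization.lift_injective_iff]
    intro x y
    constructor
    · intro h
      rw [IsLocalization.injective (Localization.Away a)
        (powers_le_nonZeroDivisors_of_noZeroDivisors ha) h]
    · intro h
      rw [IsFractionRing.injective R K h]
  have hq : ∀ q ∈ BlowUp.affineAlgebra R I a, ∃ y : A, algebraMap A K y = lam q := by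
    intro q hq
    unfold BlowUp.affineAlgebra at hq
    induction hq using Algebra.adjoin_induction with
    | mem q hq =>
      obtain ⟨x, hx, rfl⟩ := hq
      obtain ⟨y, hy⟩ := hI x hx
      refine ⟨y, ?_⟩
      apply mul_right_cancel₀ ha'
      rw [hy, hlam_mk]
    | algebraMap z =>
      exact ⟨algebraMap R A z, by rw [hlam_alg, ← IsScalarTower.algebraMap_apply]⟩
    | add p q _ _ hp hq =>
      obtain ⟨yp, hyp⟩ := hp
      obtain ⟨yq, hyq⟩ := hq
      exact ⟨yp + yq, by rw [map_add, map_add, hyp, hyq]⟩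
    | mul p q _ _ hp hq =>
      obtain ⟨yp, hyp⟩ := hp
      obtain ⟨yq, hyq⟩ := hq
      exact ⟨yp * yq, by rw [map_mul, map_mul, hyp, hyq]⟩
  choose g hg using (fun q : BlowUp.affineAlgebra R I a => hq q.1 q.2)
  obtain ⟨σ₀, hσ₀⟩ : ∃ σ₀ : BlowUp.affineAlgebra R I a →ₐ[R] A, ∀ q, σ₀ q = g q := by
    refine ⟨{ toFun := g, map_one' := ?_, map_mul' := ?_, map_zero' := ?_, map_add' := ?_,
              commutes' := ?_ }, fun q => rfl⟩
    · apply hAK
      rw [hg, map_one]
      exact map_one lam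
    · intro p q
      apply hAK
      rw [hg, map_mul, hg, hg]
      exact map_mul lam _ _
    · apply hAK
      rw [hg, map_zero]
      exact map_zero lam
    · intro p q
      apply hAK
      rw [hg, map_add, hg, hg]
      exact map_add lam _ _
    · intro z
      apply hAK
      rw [hg, ← IsScalarTower.algebraMap_apply]
      exact hlam_alg z
  refine ⟨σ₀, ?_, ?_⟩
  · intro p q hpq
    rw [hσ₀, hσ₀] at hpq
    have h1 : lam p.1 = lam q.1 := by rw [← hg, ← hg, hpq]
    exact Subtype.ext (hlam_inj h1)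
  · intro x hx y hy
    refine ⟨⟨IsLocalization.mk' (Localization.Away a) x
      (⟨a, Submonoid.mem_powers a⟩ : Submonoid.powers a),
      Algebra.subset_adjoin ⟨x, hx, rfl⟩⟩, ?_⟩
    rw [hσ₀]
    apply hAK
    rw [hg]
    apply mul_right_cancel₀ ha'
    rw [hy, hlam_mk]

end sigma

section ideal

theorem exists_ideal {R K A : Type u} [CommRing R] [IsDomain R] [IsLocalRing R] [Field K]
    [Algebra R K] [IsFractionRing R K] [CommRing A] [Algebra A K] [Algebra R A]
    [IsScalarTower R A K] (hm : IsLocalRing.maximalIdeal R ≠ ⊥) (E : Finset A) (x : R)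
    (hx : x ≠ 0) :
    ∃ (I : Ideal R) (a : R), I.FG ∧ I ≤ IsLocalRing.maximalIdeal R ∧ a ∈ I ∧ a ≠ 0 ∧ x ∣ a ∧
      (∀ z ∈ I, ∃ y : A, algebraMap A K y * algebraMap R K a = algebraMap R K z) ∧
      (∀ e ∈ E, ∃ z ∈ I, algebraMap A K e * algebraMap R K a = algebraMap R K z) := by
  classical
  obtain ⟨⟨d, hd⟩, hdE⟩ := IsLocalization.exist_integer_multiples_of_finset (nonZeroDivisors R)
    (E.image (algebraMap A K))
  have hd0 : d ≠ 0 := nonZeroDivisors.ne_zero hd
  have hz : ∀ e ∈ E, ∃ z : R, algebraMap R K z = d • algebraMap A K e := fun e he =>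
    hdE _ (Finset.mem_image_of_mem _ he)
  choose! z hz using hz
  obtain ⟨t, htm, ht0⟩ := Submodule.exists_mem_ne_zero_of_ne_bot hm
  obtain ⟨a, haeq⟩ : ∃ a : R, a = t * d * x := ⟨_, rfl⟩
  obtain ⟨gens, hgens⟩ : ∃ gens : Finset R, gens = insert a (E.image fun e => t * x * z e) :=
    ⟨_, rfl⟩
  have hident : ∀ e ∈ E, algebraMap A K e * algebraMap R K a = algebraMap R K (t * x * z e) := by
    intro e he
    rw [haeq, map_mul, map_mul, map_mul, map_mul, hz e he, Algebra.smul_def]
    ring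
  refine ⟨Ideal.span (gens : Set R), a, ⟨gens, rfl⟩, ?_, ?_, ?_, ?_, ?_, ?_⟩
  · rw [Ideal.span_le]
    intro g hg
    rw [Finset.mem_coe, hgens, Finset.mem_insert, Finset.mem_image] at hg
    rcases hg with rfl | ⟨e, _, rfl⟩
    · rw [haeq, mul_assoc]
      exact Ideal.mul_mem_right _ _ htm
    · rw [mul_assoc]
      exact Ideal.mul_mem_right _ _ htm
  · apply Ideal.subset_span
    rw [Finset.mem_coe, hgens]
    exact Finset.mem_insert_self _ _
  · rw [haeq]
    exact mul_ne_zero (mul_ne_zero ht0 hd0) hx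
  · exact ⟨t * d, by rw [haeq]; ring⟩
  · intro w hw
    induction hw using Submodule.span_induction with
    | mem g hg =>
      rw [Finset.mem_coe, hgens, Finset.mem_insert, Finset.mem_image] at hg
      rcases hg with rfl | ⟨e, he, rfl⟩
      · exact ⟨1, by rw [map_one, one_mul]⟩
      · exact ⟨e, hident e he⟩
    | zero => exact ⟨0, by rw [map_zero, zero_mul, map_zero]⟩
    | add p q _ _ hp hq =>
      obtain ⟨yp, hyp⟩ := hp
      obtain ⟨yq, hyq⟩ := hq
      exact ⟨yp + yq, by rw [map_add, add_mul, hyp, hyq, map_add]⟩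
    | smul c p _ hp =>
      obtain ⟨yp, hyp⟩ := hp
      refine ⟨algebraMap R A c * yp, ?_⟩
      rw [map_mul, mul_assoc, hyp, ← IsScalarTower.algebraMap_apply, smul_eq_mul, map_mul]
  · intro e he
    refine ⟨t * x * z e, ?_, hident e he⟩
    apply Ideal.subset_span
    rw [Finset.mem_coe, hgens]
    exact Finset.mem_insert_of_mem (Finset.mem_image_of_mem _ he)

end ideal

section main

theorem main (R K : Type u) [CommRing R] [IsDomain R] [IsLocalRing R] [Field K]
    [Algebra R K] [IsFractionRing R K] (S : Type u) [CommRing S] [Algebra R S]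
    [Algebra.FiniteType R S] (M : Type u)
    [AddCommGroup M] [Module S M] [Module R M] [IsScalarTower R S M] [Module.Finite S M]
    (A : Type u) [CommRing A] [IsDomain A] [ValuationRing A] [Algebra A K] [IsFractionRing A K]
    [Algebra R A] [IsScalarTower R A K] [IsLocalHom (algebraMap R A)]
    (hm : IsLocalRing.maximalIdeal R ≠ ⊥) :
    ∃ (I : Ideal R) (a : R), I.FG ∧ I ≤ IsLocalRing.maximalIdeal R ∧ a ∈ I ∧ a ≠ 0 ∧
      (∀ x ∈ I, ∃ y : A, algebraMap A K y * algebraMap R K a = algebraMap R K x) ∧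
      ∀ (R₁ : Type u) [CommRing R₁] [Algebra R R₁] (e : R₁ ≃ₐ[R] ↥(BlowUp.affineAlgebra R I a)),
        (IsLocalRing.maximalIdeal R).map (algebraMap R R₁) ≠ ⊤ ∧
        Module.Flat R₁ ((R₁ ⊗[R] S) ⧸
          FlatCA.powTorsion (R₁ ⊗[R] S) (algebraMap R (R₁ ⊗[R] S) a) (R₁ ⊗[R] S)) ∧
        Algebra.FinitePresentation R₁
          ((R₁ ⊗[R] S) ⧸
            FlatCA.powTorsion (R₁ ⊗[R] S) (algebraMap R (R₁ ⊗[R] S) a) (R₁ ⊗[R] S)) ∧
        Module.Flat R₁ ((R₁ ⊗[R] M) ⧸
          FlatCA.powTorsion R₁ (algebraMap R R₁ a) (R₁ ⊗[R] M)) := by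
  classical
  have hRA : Function.Injective (algebraMap R A) := by
    have h := IsFractionRing.injective R K
    rw [IsScalarTower.algebraMap_eq R A K, RingHom.coe_comp] at h
    exact Function.Injective.of_comp h
  obtain ⟨n, f, hf⟩ := Algebra.FiniteType.iff_quotient_mvPolynomial''.mp
    (inferInstance : Algebra.FiniteType R S)
  obtain ⟨r, m, hm'⟩ := Module.Finite.exists_fin (R := S) (M := M)
  obtain ⟨E_M, x_M, hx_M, hlev_M⟩ := level R K A (kerM f m)
  obtain ⟨E_S, x_S, hx_S, hlev_S⟩ := level R K A (kerM f (fun _ : Fin 1 => (1 : S)))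
  obtain ⟨I, a, hIfg, hIm, haI, ha0, hxa, hIA, hEI⟩ :=
    exists_ideal (K := K) (A := A) hm (E_M ∪ E_S) (x_M * x_S) (mul_ne_zero hx_M hx_S)
  refine ⟨I, a, hIfg, hIm, haI, ha0, hIA, ?_⟩
  intro R₁ _ _ e
  obtain ⟨σ₀, hσ₀, hσ₀range⟩ := exists_sigma (IsFractionRing.injective A K) I a ha0 hIA
  obtain ⟨σ, hσdef⟩ : ∃ σ : R₁ →ₐ[R] A, ∀ z, σ z = σ₀ (e z) :=
    ⟨σ₀.comp e.toAlgHom, fun z => rfl⟩
  have hσ : Function.Injective σ := by
    intro p q hpq
    rw [hσdef, hσdef] at hpq
    exact e.injective (hσ₀ hpq)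
  have hErange : ∀ e' ∈ E_M ∪ E_S, e' ∈ Set.range σ := by
    intro e' he'
    obtain ⟨z, hz, hzeq⟩ := hEI e' he'
    obtain ⟨q, hq⟩ := hσ₀range z hz e' hzeq
    exact ⟨e.symm q, by rw [hσdef, AlgEquiv.apply_symm_apply, hq]⟩
  haveI : IsDomain R₁ := hσ.isDomain σ.toRingHom
  have haR₁ : algebraMap R R₁ a ≠ 0 := by
    intro h
    have h1 : algebraMap R A a = 0 := by rw [← σ.commutes, h, map_zero]
    exact ha0 (hRA (by rw [h1, map_zero]))
  have hdvdS : x_S ∣ a := dvd_trans (Dvd.intro_left x_M rfl) hxa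
  have hdvdM : x_M ∣ a := dvd_trans (Dvd.intro x_S rfl) hxa
  refine ⟨?_, ?_⟩
  · intro htop
    have h1 : (IsLocalRing.maximalIdeal R).map (algebraMap R A) = ⊤ := by
      have h0 : algebraMap R A = σ.toRingHom.comp (algebraMap R R₁) :=
        RingHom.ext (fun z => (σ.commutes z).symm)
      rw [h0, ← Ideal.map_map, htop, Ideal.map_top]
    have h2 : (IsLocalRing.maximalIdeal R).map (algebraMap R A) ≤ IsLocalRing.maximalIdeal A :=
      ((IsLocalRing.local_hom_TFAE (algebraMap R A)).out 0 2).mp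
        (inferInstance : IsLocalHom (algebraMap R A))
    rw [h1] at h2
    exact (IsLocalRing.maximalIdeal.isMaximal A).ne_top (top_le_iff.mp h2)
  · have hS : Module.Flat R₁ ((R₁ ⊗[R] S) ⧸
          FlatCA.powTorsion (R₁ ⊗[R] S) (algebraMap R (R₁ ⊗[R] S) a) (R₁ ⊗[R] S)) ∧
        Algebra.FinitePresentation R₁ ((R₁ ⊗[R] S) ⧸
          FlatCA.powTorsion (R₁ ⊗[R] S) (algebraMap R (R₁ ⊗[R] S) a) (R₁ ⊗[R] S)) := by
      obtain ⟨t, k₁, hfl, hvL, c₁, hc₁, hcg⟩ := hlev_S R₁ σ hσ
        (fun e' he' => hErange e' (Finset.mem_union_right _ he'))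
      haveI := hfl
      have hspan1 : Submodule.span S (Set.range (fun _ : Fin 1 => (1 : S))) = ⊤ := by
        rw [Set.range_const]
        exact Ideal.span_singleton_one
      obtain ⟨Φ, hΦ, hker, hcompat⟩ := strict_of_level (kerM f (fun _ : Fin 1 => (1 : S))) k₁ hvL c₁
        a haR₁ (dvd_trans hc₁ (map_dvd (algebraMap R R₁) hdvdS)) hcg
        (phiM f (fun _ : Fin 1 => (1 : S))) (phiM_surjective f _ hf hspan1) (fun v => Iff.rfl)
      exact S_part f hf k₁ a Φ hΦ hker hcompat
    refine ⟨hS.1, hS.2, ?_⟩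
    obtain ⟨t, k₁, hfl, hvL, c₁, hc₁, hcg⟩ := hlev_M R₁ σ hσ
      (fun e' he' => hErange e' (Finset.mem_union_left _ he'))
    haveI := hfl
    obtain ⟨Φ, hΦ, hker, -⟩ := strict_of_level (kerM f m) k₁ hvL c₁
      a haR₁ (dvd_trans hc₁ (map_dvd (algebraMap R R₁) hdvdM)) hcg
      (phiM f m) (phiM_surjective f m hf hm') (fun v => Iff.rfl)
    exact flat_quot_of_ker Φ hΦ _ hker

end main

end Groth.Agent.H8.BlowVal
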